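/-
helper50: project BT (helper35, S2154 Borel-Tits), modules [UJ-FIL] and [UNIP-U] in `_of` form: the statements of the modules
they use ([FIL-X] fil_x, [ROOT-B] om_pos, [FIL-INV] fil_inv, [STAB-P] mem_parabolic, [LEVI-WT] levi_wt, S1048) are hypotheses.
-/
import Cfsg.Agent.Lib.Helper35.BT.Defs

set_option autoImplicit false

namespace Cfsg.Agent.Lib.Helper50.BT

open Cfsg Cfsg.Lie Cfsg.Agent.Lib.Helper18 Cfsg.Agent.Lib.Helper61.ChevJ Matrix Cfsg.Agent.Lib.Helper35.BT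

universe u

variable {D : ChevalleyDatum} {F : Type u} [Field F]

/-- the product rule: `AB - 1 = (A-1)(B-1) + (A-1) + (B-1)` -/
theorem fil_mul_sub_one {X : JData.{u} D} {y : Y D} {c : ℝ} (hc : 0 ≤ c) {A B : Matrix D.Idx D.Idx F}
    (hA : Fil X y c (A - 1)) (hB : Fil X y c (B - 1)) : Fil X y c (A * B - 1) := by
  have e : A * B - 1 = (A - 1) * (B - 1) + (A - 1) + (B - 1) := by noncomm_ring
  rw [e]
  exact (((hA.mul hB).mono (by linarith)).add hA).add hB

/-- `Fil y 0 A` from `Fil y c (A - 1)`, `c ≥ 0` -/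
theorem fil_zero_of_sub_one {X : JData.{u} D} {y : Y D} {c : ℝ} (hc : 0 ≤ c) {A : Matrix D.Idx D.Idx F}
    (hA : Fil X y c (A - 1)) : Fil X y 0 A := by
  have e : A = (A - 1) + 1 := by abel
  rw [e]
  exact (hA.mono hc).add (Fil.one y)

/-- BT-[UJ-FIL] in `_of` form. -/
theorem exists_fil_unipotentRadical_of (X : JData.{u} D) (y : Y D)
    (hfilx : ∀ r : ℕ, r < D.nroots → ∀ t : F, 0 ≤ om X y r → Fil X y (om X y r) (D.x F r t - 1))
    (hompos : ∀ r : ℕ, D.IsPosRoot r → ¬ D.InRootSub (Jof y) r → 0 < om X y r)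
    (hinv : ∀ c : ℝ, 0 < c → ∀ g : GL D.Idx F, Fil X y c ((g : Matrix D.Idx D.Idx F) - 1) →
      Fil X y c (((g⁻¹ : GL D.Idx F) : Matrix D.Idx D.Idx F) - 1)) :
    ∃ c : ℝ, 0 < c ∧ ∀ u ∈ D.unipotentRadical F (Jof y), Fil X y c ((u : Matrix D.Idx D.Idx F) - 1) := by
  classical
  let R : Finset ℕ := (Finset.range D.nroots).filter fun r => D.IsPosRoot r ∧ ¬ D.InRootSub (Jof y) r
  obtain ⟨c, hc, hcle⟩ : ∃ c : ℝ, 0 < c ∧ ∀ r ∈ R, c ≤ om X y r := by
    by_cases hR : R.Nonempty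
    · obtain ⟨r0, hr0, hmin⟩ := Finset.exists_min_image R (fun r => om X y r) hR
      refine ⟨om X y r0, ?_, hmin⟩
      have := (Finset.mem_filter.1 hr0).2
      exact hompos r0 this.1 this.2
    · exact ⟨1, one_pos, fun r hr => absurd ⟨r, hr⟩ hR⟩
  refine ⟨c, hc, fun u hu => ?_⟩
  unfold ChevalleyDatum.unipotentRadical at hu
  induction hu using Subgroup.closure_induction with
  | mem g hg =>
    obtain ⟨r, t, hr, hnr, hg⟩ := hg
    rw [hg]
    have hrR : r ∈ R := Finset.mem_filter.2 ⟨Finset.mem_range.2 hr.1, hr, hnr⟩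
    exact (hfilx r hr.1 t (hompos r hr hnr).le).mono (hcle r hrR)
  | one =>
    simp only [Units.val_one, sub_self]
    exact Fil.zero y c
  | mul a b _ _ ha hb =>
    rw [Units.val_mul]
    exact fil_mul_sub_one hc.le ha hb
  | inv a _ ha => exact hinv c hc a ha

/-- a product decomposition for a join `U ⊔ L` with `L` normalising `U` -/
theorem exists_mul_of_mem_sup {G : Type*} [Group G] (U L : Subgroup G)
    (hLU : L ≤ Subgroup.normalizer (U : Set G)) (g : G) (hg : g ∈ U ⊔ L) :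
    ∃ u ∈ U, ∃ l ∈ L, g = u * l := by
  rw [Subgroup.sup_eq_closure] at hg
  induction hg using Subgroup.closure_induction with
  | mem x hx =>
    rcases hx with hx | hx
    · exact ⟨x, hx, 1, L.one_mem, (mul_one x).symm⟩
    · exact ⟨1, U.one_mem, x, hx, (one_mul x).symm⟩
  | one => exact ⟨1, U.one_mem, 1, L.one_mem, (mul_one 1).symm⟩
  | mul a b _ _ ha hb =>
    obtain ⟨u1, hu1, l1, hl1, rfl⟩ := ha
    obtain ⟨u2, hu2, l2, hl2, rfl⟩ := hb
    refine ⟨u1 * (l1 * u2 * l1⁻¹), U.mul_mem hu1 ?_, l1 * l2, L.mul_mem hl1 hl2, by group⟩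
    exact (Subgroup.mem_normalizer_iff.1 (hLU hl1) u2).1 hu2
  | inv a _ ha =>
    obtain ⟨u1, hu1, l1, hl1, rfl⟩ := ha
    refine ⟨l1⁻¹ * u1⁻¹ * l1⁻¹⁻¹, ?_, l1⁻¹, L.inv_mem hl1, by group⟩
    exact (Subgroup.mem_normalizer_iff.1 (hLU (L.inv_mem hl1)) u1⁻¹).1 (U.inv_mem hu1)

/-- BT-[UNIP-U] in `_of` form. -/
theorem mem_unipotentRadical_of (X : JData.{u} D) (y : Y D) (g : GL D.Idx F) (c : ℝ) (hc : 0 < c)
    (h : Fil X y c ((g : Matrix D.Idx D.Idx F) - 1))
    (hinv : ∀ c : ℝ, 0 < c → ∀ g : GL D.Idx F, Fil X y c ((g : Matrix D.Idx D.Idx F) - 1) →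
      Fil X y c (((g⁻¹ : GL D.Idx F) : Matrix D.Idx D.Idx F) - 1))
    (hpar : Fil X y 0 (g : Matrix D.Idx D.Idx F) →
      Fil X y 0 ((g⁻¹ : GL D.Idx F) : Matrix D.Idx D.Idx F) → g ∈ D.parabolicSubgroup F (Jof y))
    (hlevi : ∀ l ∈ D.leviSubgroup F (Jof y), ∀ a b : D.Idx,
      (l : Matrix D.Idx D.Idx F) a b ≠ 0 → wt X y a = wt X y b)
    (hUJ : ∃ c' : ℝ, 0 < c' ∧ ∀ u ∈ D.unipotentRadical F (Jof y),
      Fil X y c' ((u : Matrix D.Idx D.Idx F) - 1))
    (hnorm : D.parabolicSubgroup F (Jof y) ≤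
      Subgroup.normalizer (D.unipotentRadical F (Jof y) : Set (GL D.Idx F)))
    (hsup : D.unipotentRadical F (Jof y) ⊔ D.leviSubgroup F (Jof y) = D.parabolicSubgroup F (Jof y)) :
    g ∈ D.unipotentRadical F (Jof y) := by
  have hgP : g ∈ D.parabolicSubgroup F (Jof y) :=
    hpar (fil_zero_of_sub_one hc.le h) (fil_zero_of_sub_one hc.le (hinv c hc g h))
  have hLP : D.leviSubgroup F (Jof y) ≤ D.parabolicSubgroup F (Jof y) := hsup ▸ le_sup_right
  obtain ⟨u, hu, l, hl, hgul⟩ :=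
    exists_mul_of_mem_sup _ _ (hLP.trans hnorm) g (hsup ▸ hgP)
  obtain ⟨c', hc', hU⟩ := hUJ
  -- `l = u⁻¹ g`
  have hl' : l = u⁻¹ * g := by rw [hgul]; group
  have hcm : 0 < min c c' := lt_min hc hc'
  have h1 : Fil X y (min c c') (((u⁻¹ : GL D.Idx F) : Matrix D.Idx D.Idx F) - 1) :=
    (hinv c' hc' u (hU u hu)).mono (min_le_right _ _)
  have h2 : Fil X y (min c c') ((g : Matrix D.Idx D.Idx F) - 1) := h.mono (min_le_left _ _)
  have h3 : Fil X y (min c c') ((l : Matrix D.Idx D.Idx F) - 1) := by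
    rw [hl', Units.val_mul]
    exact fil_mul_sub_one hcm.le h1 h2
  -- every entry of `l - 1` vanishes
  have hl1 : (l : Matrix D.Idx D.Idx F) = 1 := by
    have hz : (l : Matrix D.Idx D.Idx F) - 1 = 0 := by
      ext a b
      by_contra hne
      have hF := h3 a b hne
      by_cases hab : a = b
      · subst hab
        linarith
      · have hlab : (l : Matrix D.Idx D.Idx F) a b ≠ 0 := by
          rw [Matrix.sub_apply, Matrix.one_apply_ne hab, sub_zero] at hne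
          exact hne
        have := hlevi l hl a b hlab
        linarith
    exact sub_eq_zero.1 hz
  have : l = 1 := Units.ext hl1
  rw [hgul, this, mul_one]
  exact hu

end Cfsg.Agent.Lib.Helper50.BT
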