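/-
helper50: project BT (helper35, S2154 Borel-Tits), module [UJ-FIL] `exists_fil_unipotentRadical`: exact stub statement
(`notes/helper35_BT_modules.lean.txt`), from the `_of` form of `UJFilOf.lean` and the modules [FIL-X] (helper34),
[ROOT-B] (helper34), [FIL-INV] (helper35).
-/
import Cfsg.Agent.Lib.Helper35.BT.Defs
import Cfsg.Agent.Lib.Helper50.BT.UJFilOf
import Cfsg.Agent.Lib.Helper34.BT.FilX
import Cfsg.Agent.Lib.Helper34.BT.RootBExact
import Cfsg.Agent.Lib.Helper35.BT.FilInv

set_option autoImplicit false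

namespace Cfsg.Agent.Lib.Helper35.BT

open Cfsg Cfsg.Lie Cfsg.Agent.Lib.Helper18 Cfsg.Agent.Lib.Helper61.ChevJ Matrix

universe u

variable {D : ChevalleyDatum}

section Mat

variable {F : Type u} [Field F]

/-- BT-[UJ-FIL] -/
theorem exists_fil_unipotentRadical [Finite F]
    (hD : D ∈ [chevG2, chevB2, chevD4, chevF4, chevE6, chevE7, chevE8]) (X : JData.{u} D) (y : Y D)
    (hy : Dom y) :
    ∃ c : ℝ, 0 < c ∧ ∀ u ∈ D.unipotentRadical F (Jof y), Fil X y c ((u : Matrix D.Idx D.Idx F) - 1) :=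
  Cfsg.Agent.Lib.Helper50.BT.exists_fil_unipotentRadical_of X y
    (fun r hr t h => fil_x hD X y r hr t h)
    (fun r hr hnot => om_pos X y hy r hr hnot)
    (fun c hc g h => fil_inv X y c hc g h)

end Mat

end Cfsg.Agent.Lib.Helper35.BT
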